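import Cfsg.Agent.Lib.RegUnip.Design4

/-!
# Explicit parameters for the design in `SL₄`.
-/

set_option autoImplicit false
set_option linter.unusedSectionVars false
set_option linter.unusedSimpArgs false
set_option linter.style.longLine false
set_option linter.unusedTactic false
set_option linter.unreachableTactic false
set_option linter.style.multiGoal false
set_option maxHeartbeats 4000000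

namespace Cfsg.Agent.Lib.RegUnip.Inst4

open Matrix Matrix.SpecialLinearGroup
open Cfsg.Agent.Lib.RegUnip.Design4

variable {F : Type*} [Field F]

/-- Parameter `d` of case E. -/
def dE (α : F) : F := α * (α - 1) * (α - 3)

/-- Parameter `h` of case E. -/
def hE (α : F) : F := -(α ^ 3 - 3 * α ^ 2 + 2 * α + 2) / (α ^ 2 * (α + 1))

/-- Parameter `a` of case E. -/
def aE (α : F) : F := (-α ^ 6 + 6 * α ^ 5 - 9 * α ^ 4 + 2 * α ^ 2 + 4 * α + 2) / (α ^ 3 * (α + 1) ^ 2 * (α - 1) * (α - 3))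

/-- Common denominator of case E. -/
def DE (α : F) : F := α ^ 4 * (α + 1) ^ 4 * (α - 1) * (α - 3)

/-- Entry of `ZE`. -/
def ZE_00 (α : F) : F :=
  α ^ 13 - 8 * α ^ 12 + 18 * α ^ 11 + 7 * α ^ 10 - 54 * α ^ 9 - α ^ 8 + 52 * α ^ 7 + 21 * α ^ 6 - 11 * α ^ 5 - 19 * α ^ 4 - 6 * α ^ 3

/-- Entry of `ZE`. -/
def ZE_01 (α : F) : F :=
  α ^ 12 - 8 * α ^ 11 + 17 * α ^ 10 + 12 * α ^ 9 - 52 * α ^ 8 - 20 * α ^ 7 + 37 * α ^ 6 + 32 * α ^ 5 + 9 * α ^ 4 - 8 * α ^ 3 - 4 * α ^ 2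

/-- Entry of `ZE`. -/
def ZE_02 (α : F) : F :=
  2 * α ^ 8 - 8 * α ^ 7 - 4 * α ^ 6 + 24 * α ^ 5 + 14 * α ^ 4 - 16 * α ^ 3 - 24 * α ^ 2 - 16 * α - 4

/-- Entry of `ZE`. -/
def ZE_03 (α : F) : F :=
  α ^ 10 - 12 * α ^ 9 + 55 * α ^ 8 - 116 * α ^ 7 + 97 * α ^ 6 + 8 * α ^ 5 - 25 * α ^ 4 - 24 * α ^ 3 - 6 * α ^ 2 + 16 * α + 6

/-- Entry of `ZE`. -/
def ZE_10 (α : F) : F :=
  -α ^ 14 + 8 * α ^ 13 - 18 * α ^ 12 - 8 * α ^ 11 + 70 * α ^ 10 - 32 * α ^ 9 - 100 * α ^ 8 + 56 * α ^ 7 + 67 * α ^ 6 - 24 * α ^ 5 - 18 * α ^ 4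

/-- Entry of `ZE`. -/
def ZE_11 (α : F) : F :=
  -α ^ 13 + 8 * α ^ 12 - 17 * α ^ 11 - 13 * α ^ 10 + 69 * α ^ 9 - 9 * α ^ 8 - 95 * α ^ 7 + 25 * α ^ 6 + 56 * α ^ 5 - 11 * α ^ 4 - 12 * α ^ 3

/-- Entry of `ZE`. -/
def ZE_12 (α : F) : F :=
  -α ^ 9 + 8 * α ^ 8 - 5 * α ^ 7 - 40 * α ^ 6 + 9 * α ^ 5 + 64 * α ^ 4 + 9 * α ^ 3 - 32 * α ^ 2 - 12 * α

/-- Entry of `ZE`. -/
def ZE_13 (α : F) : F :=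
  -α ^ 11 + 12 * α ^ 10 - 55 * α ^ 9 + 116 * α ^ 8 - 81 * α ^ 7 - 108 * α ^ 6 + 219 * α ^ 5 - 60 * α ^ 4 - 106 * α ^ 3 + 40 * α ^ 2 + 24 * α

/-- Entry of `ZE`. -/
def ZE_20 (α : F) : F :=
  α ^ 14 - 4 * α ^ 13 - 4 * α ^ 12 + 20 * α ^ 11 + 14 * α ^ 10 - 28 * α ^ 9 - 20 * α ^ 8 + 12 * α ^ 7 + 9 * α ^ 6

/-- Entry of `ZE`. -/
def ZE_21 (α : F) : F :=
  α ^ 13 - 4 * α ^ 12 - 5 * α ^ 11 + 20 * α ^ 10 + 21 * α ^ 9 - 20 * α ^ 8 - 23 * α ^ 7 + 4 * α ^ 6 + 6 * α ^ 5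

/-- Entry of `ZE`. -/
def ZE_22 (α : F) : F :=
  -α ^ 10 + 2 * α ^ 9 + 7 * α ^ 8 - 6 * α ^ 7 - 19 * α ^ 6 - 2 * α ^ 5 + 13 * α ^ 4 + 6 * α ^ 3

/-- Entry of `ZE`. -/
def ZE_23 (α : F) : F :=
  α ^ 11 - 8 * α ^ 10 + 18 * α ^ 9 + 4 * α ^ 8 - 48 * α ^ 7 + 16 * α ^ 6 + 38 * α ^ 5 - 12 * α ^ 4 - 9 * α ^ 3

/-- Entry of `ZE`. -/
def ZE_30 (α : F) : F :=
  -α ^ 14 + 4 * α ^ 13 + 4 * α ^ 12 - 20 * α ^ 11 - 14 * α ^ 10 + 28 * α ^ 9 + 20 * α ^ 8 - 12 * α ^ 7 - 9 * α ^ 6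

/-- Entry of `ZE`. -/
def ZE_31 (α : F) : F :=
  -α ^ 13 + 4 * α ^ 12 + 5 * α ^ 11 - 20 * α ^ 10 - 21 * α ^ 9 + 20 * α ^ 8 + 23 * α ^ 7 - 4 * α ^ 6 - 6 * α ^ 5

/-- Entry of `ZE`. -/
def ZE_32 (α : F) : F :=
  -2 * α ^ 9 + 14 * α ^ 7 + 16 * α ^ 6 - 6 * α ^ 5 - 16 * α ^ 4 - 6 * α ^ 3

/-- Entry of `ZE`. -/
def ZE_33 (α : F) : F :=
  -α ^ 11 + 7 * α ^ 10 - 17 * α ^ 9 + 3 * α ^ 8 + 49 * α ^ 7 - 27 * α ^ 6 - 43 * α ^ 5 + 17 * α ^ 4 + 12 * α ^ 3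


/-- Numerator of `v - 1`, case E. -/
def ZE (α : F) : Matrix (Fin 4) (Fin 4) F :=
  !![ZE_00 α, ZE_01 α, ZE_02 α, ZE_03 α;
    ZE_10 α, ZE_11 α, ZE_12 α, ZE_13 α;
    ZE_20 α, ZE_21 α, ZE_22 α, ZE_23 α;
    ZE_30 α, ZE_31 α, ZE_32 α, ZE_33 α]

/-- Entry of `ZsE`. -/
def ZsE_00 (α : F) : F :=
  2 * α ^ 23 - 17 * α ^ 22 + 26 * α ^ 21 + 119 * α ^ 20 - 266 * α ^ 19 - 467 * α ^ 18 + 906 * α ^ 17 + 1383 * α ^ 16 - 1238 * α ^ 15 - 2501 * α ^ 14 + 190 * α ^ 13 + 2173 * α ^ 12 + 930 * α ^ 11 - 617 * α ^ 10 - 610 * α ^ 9 - 91 * α ^ 8 + 60 * α ^ 7 + 18 * α ^ 6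

/-- Entry of `ZsE`. -/
def ZsE_01 (α : F) : F :=
  2 * α ^ 22 - 16 * α ^ 21 + 20 * α ^ 20 + 119 * α ^ 19 - 216 * α ^ 18 - 487 * α ^ 17 + 706 * α ^ 16 + 1402 * α ^ 15 - 798 * α ^ 14 - 2354 * α ^ 13 - 312 * α ^ 12 + 1739 * α ^ 11 + 1044 * α ^ 10 - 307 * α ^ 9 - 478 * α ^ 8 - 108 * α ^ 7 + 32 * α ^ 6 + 12 * α ^ 5

/-- Entry of `ZsE`. -/
def ZsE_02 (α : F) : F :=
  α ^ 21 - 8 * α ^ 20 + 8 * α ^ 19 + 72 * α ^ 18 - 106 * α ^ 17 - 356 * α ^ 16 + 363 * α ^ 15 + 1168 * α ^ 14 - 247 * α ^ 13 - 2104 * α ^ 12 - 878 * α ^ 11 + 1640 * α ^ 10 + 1676 * α ^ 9 - 52 * α ^ 8 - 833 * α ^ 7 - 416 * α ^ 6 + 4 * α ^ 5 + 56 * α ^ 4 + 12 * α ^ 3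

/-- Entry of `ZsE`. -/
def ZsE_03 (α : F) : F :=
  2 * α ^ 20 - 25 * α ^ 19 + 108 * α ^ 18 - 115 * α ^ 17 - 422 * α ^ 16 + 982 * α ^ 15 + 616 * α ^ 14 - 2542 * α ^ 13 - 694 * α ^ 12 + 3531 * α ^ 11 + 1340 * α ^ 10 - 2631 * α ^ 9 - 1818 * α ^ 8 + 640 * α ^ 7 + 944 * α ^ 6 + 184 * α ^ 5 - 76 * α ^ 4 - 24 * α ^ 3

/-- Entry of `ZsE`. -/
def ZsE_10 (α : F) : F :=
  -2 * α ^ 24 + 17 * α ^ 23 - 26 * α ^ 22 - 123 * α ^ 21 + 298 * α ^ 20 + 445 * α ^ 19 - 1178 * α ^ 18 - 1167 * α ^ 17 + 2342 * α ^ 16 + 2211 * α ^ 15 - 2398 * α ^ 14 - 2593 * α ^ 13 + 1054 * α ^ 12 + 1615 * α ^ 11 + 18 * α ^ 10 - 405 * α ^ 9 - 108 * α ^ 8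

/-- Entry of `ZsE`. -/
def ZsE_11 (α : F) : F :=
  -2 * α ^ 23 + 16 * α ^ 22 - 20 * α ^ 21 - 123 * α ^ 20 + 246 * α ^ 19 + 478 * α ^ 18 - 964 * α ^ 17 - 1297 * α ^ 16 + 1794 * α ^ 15 + 2372 * α ^ 14 - 1516 * α ^ 13 - 2477 * α ^ 12 + 338 * α ^ 11 + 1262 * α ^ 10 + 196 * α ^ 9 - 231 * α ^ 8 - 72 * α ^ 7

/-- Entry of `ZsE`. -/
def ZsE_12 (α : F) : F :=
  -α ^ 22 + 8 * α ^ 21 - 8 * α ^ 20 - 74 * α ^ 19 + 123 * α ^ 18 + 352 * α ^ 17 - 542 * α ^ 16 - 1130 * α ^ 15 + 1087 * α ^ 14 + 2384 * α ^ 13 - 860 * α ^ 12 - 3006 * α ^ 11 - 299 * α ^ 10 + 1936 * α ^ 9 + 866 * α ^ 8 - 398 * α ^ 7 - 366 * α ^ 6 - 72 * α ^ 5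

/-- Entry of `ZsE`. -/
def ZsE_13 (α : F) : F :=
  -2 * α ^ 21 + 25 * α ^ 20 - 108 * α ^ 19 + 111 * α ^ 18 + 474 * α ^ 17 - 1167 * α ^ 16 - 600 * α ^ 15 + 3455 * α ^ 14 - 94 * α ^ 13 - 5373 * α ^ 12 + 660 * α ^ 11 + 4869 * α ^ 10 - 202 * α ^ 9 - 2445 * α ^ 8 - 272 * α ^ 7 + 525 * α ^ 6 + 144 * α ^ 5

/-- Entry of `ZsE`. -/
def ZsE_20 (α : F) : F :=
  2 * α ^ 24 - 9 * α ^ 23 - 18 * α ^ 22 + 91 * α ^ 21 + 114 * α ^ 20 - 357 * α ^ 19 - 498 * α ^ 18 + 543 * α ^ 17 + 1014 * α ^ 16 - 235 * α ^ 15 - 966 * α ^ 14 - 159 * α ^ 13 + 406 * α ^ 12 + 153 * α ^ 11 - 54 * α ^ 10 - 27 * α ^ 9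

/-- Entry of `ZsE`. -/
def ZsE_21 (α : F) : F :=
  2 * α ^ 23 - 8 * α ^ 22 - 20 * α ^ 21 + 78 * α ^ 20 + 126 * α ^ 19 - 284 * α ^ 18 - 496 * α ^ 17 + 370 * α ^ 16 + 926 * α ^ 15 - 48 * α ^ 14 - 804 * α ^ 13 - 238 * α ^ 12 + 290 * α ^ 11 + 148 * α ^ 10 - 24 * α ^ 9 - 18 * α ^ 8

/-- Entry of `ZsE`. -/
def ZsE_22 (α : F) : F :=
  α ^ 22 - 4 * α ^ 21 - 13 * α ^ 20 + 44 * α ^ 19 + 103 * α ^ 18 - 164 * α ^ 17 - 465 * α ^ 16 + 108 * α ^ 15 + 909 * α ^ 14 + 340 * α ^ 13 - 775 * α ^ 12 - 604 * α ^ 11 + 221 * α ^ 10 + 340 * α ^ 9 + 37 * α ^ 8 - 60 * α ^ 7 - 18 * α ^ 6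

/-- Entry of `ZsE`. -/
def ZsE_23 (α : F) : F :=
  2 * α ^ 21 - 17 * α ^ 20 + 30 * α ^ 19 + 90 * α ^ 18 - 262 * α ^ 17 - 199 * α ^ 16 + 838 * α ^ 15 + 272 * α ^ 14 - 1466 * α ^ 13 - 431 * α ^ 12 + 1370 * α ^ 11 + 530 * α ^ 10 - 578 * α ^ 9 - 281 * α ^ 8 + 66 * α ^ 7 + 36 * α ^ 6

/-- Entry of `ZsE`. -/
def ZsE_30 (α : F) : F :=
  -2 * α ^ 24 + 8 * α ^ 23 + 22 * α ^ 22 - 80 * α ^ 21 - 154 * α ^ 20 + 280 * α ^ 19 + 638 * α ^ 18 - 224 * α ^ 17 - 1126 * α ^ 16 - 328 * α ^ 15 + 802 * α ^ 14 + 560 * α ^ 13 - 126 * α ^ 12 - 216 * α ^ 11 - 54 * α ^ 10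

/-- Entry of `ZsE`. -/
def ZsE_31 (α : F) : F :=
  -2 * α ^ 23 + 7 * α ^ 22 + 24 * α ^ 21 - 66 * α ^ 20 - 166 * α ^ 19 + 193 * α ^ 18 + 620 * α ^ 17 + 4 * α ^ 16 - 910 * α ^ 15 - 487 * α ^ 14 + 480 * α ^ 13 + 478 * α ^ 12 - 10 * α ^ 11 - 129 * α ^ 10 - 36 * α ^ 9

/-- Entry of `ZsE`. -/
def ZsE_32 (α : F) : F :=
  -α ^ 22 + 4 * α ^ 21 + 14 * α ^ 20 - 44 * α ^ 19 - 119 * α ^ 18 + 148 * α ^ 17 + 548 * α ^ 16 + 52 * α ^ 15 - 991 * α ^ 14 - 756 * α ^ 13 + 558 * α ^ 12 + 924 * α ^ 11 + 183 * α ^ 10 - 292 * α ^ 9 - 192 * α ^ 8 - 36 * α ^ 7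

/-- Entry of `ZsE`. -/
def ZsE_33 (α : F) : F :=
  -2 * α ^ 21 + 17 * α ^ 20 - 24 * α ^ 19 - 114 * α ^ 18 + 222 * α ^ 17 + 379 * α ^ 16 - 664 * α ^ 15 - 780 * α ^ 14 + 986 * α ^ 13 + 1079 * α ^ 12 - 664 * α ^ 11 - 866 * α ^ 10 + 74 * α ^ 9 + 285 * α ^ 8 + 72 * α ^ 7


/-- The square of the numerator, case E. -/
def ZsE (α : F) : Matrix (Fin 4) (Fin 4) F :=
  !![ZsE_00 α, ZsE_01 α, ZsE_02 α, ZsE_03 α;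
    ZsE_10 α, ZsE_11 α, ZsE_12 α, ZsE_13 α;
    ZsE_20 α, ZsE_21 α, ZsE_22 α, ZsE_23 α;
    ZsE_30 α, ZsE_31 α, ZsE_32 α, ZsE_33 α]

lemma ZE_sq (α : F) : ZE α * ZE α = ZsE α := by
  ext i j
  fin_cases i <;> fin_cases j <;>
    simp [ZE, ZsE, Matrix.mul_apply, Fin.sum_univ_succ, ZE_00, ZE_01, ZE_02, ZE_03, ZE_10, ZE_11, ZE_12, ZE_13, ZE_20, ZE_21, ZE_22, ZE_23, ZE_30, ZE_31, ZE_32, ZE_33, ZsE_00, ZsE_01, ZsE_02, ZsE_03, ZsE_10, ZsE_11, ZsE_12, ZsE_13, ZsE_20, ZsE_21, ZsE_22, ZsE_23, ZsE_30, ZsE_31, ZsE_32, ZsE_33] <;> ring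

lemma ZsE_sq (α : F) : ZsE α * ZsE α = 0 := by
  ext i j
  fin_cases i <;> fin_cases j <;>
    simp [ZsE, Matrix.mul_apply, Fin.sum_univ_succ, ZsE_00, ZsE_01, ZsE_02, ZsE_03, ZsE_10, ZsE_11, ZsE_12, ZsE_13, ZsE_20, ZsE_21, ZsE_22, ZsE_23, ZsE_30, ZsE_31, ZsE_32, ZsE_33] <;> ring

lemma ZE_cube (α : F) : (ZsE α * ZE α) 2 0 = (α ^ 4 * (α + 1) ^ 4 * (α - 1) * (α - 3)) ^ 3 * (α * (α - 1) ^ 2 * (α - 3)) := by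
  simp [ZE, ZsE, Matrix.mul_apply, Fin.sum_univ_succ, DE, ZE_00, ZE_01, ZE_02, ZE_03, ZE_10, ZE_11, ZE_12, ZE_13, ZE_20, ZE_21, ZE_22, ZE_23, ZE_30, ZE_31, ZE_32, ZE_33, ZsE_00, ZsE_01, ZsE_02, ZsE_03, ZsE_10, ZsE_11, ZsE_12, ZsE_13, ZsE_20, ZsE_21, ZsE_22, ZsE_23, ZsE_30, ZsE_31, ZsE_32, ZsE_33]
  ring

/-- Parameter `d` of case O. -/
def dO (α : F) : F := 2 * α * (α - 1) ^ 2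

/-- Parameter `h` of case O. -/
def hO (α : F) : F := -(α - 1) ^ 2 * (3 * α + 1) / (α ^ 2 * (α + 1))

/-- Parameter `a` of case O. -/
def aO (α : F) : F := (-8 * α ^ 4 + 3 * α ^ 2 + 4 * α + 1) / (2 * α ^ 3 * (α + 1) ^ 2)

/-- Common denominator of case O. -/
def DO (α : F) : F := 2 * α ^ 4 * (α + 1) ^ 4

/-- Entry of `ZO`. -/
def ZO_00 (α : F) : F :=
  16 * α ^ 11 - 36 * α ^ 9 - 2 * α ^ 8 + 30 * α ^ 7 + 12 * α ^ 6 - 8 * α ^ 5 - 10 * α ^ 4 - 2 * α ^ 3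

/-- Entry of `ZO`. -/
def ZO_01 (α : F) : F :=
  16 * α ^ 10 - 44 * α ^ 8 - 16 * α ^ 7 + 33 * α ^ 6 + 34 * α ^ 5 + 12 * α ^ 4 - 2 * α ^ 3 - α ^ 2

/-- Entry of `ZO`. -/
def ZO_02 (α : F) : F :=
  8 * α ^ 6 + 16 * α ^ 5 + 5 * α ^ 4 - 10 * α ^ 3 - 12 * α ^ 2 - 6 * α - 1

/-- Entry of `ZO`. -/
def ZO_03 (α : F) : F :=
  64 * α ^ 8 - 128 * α ^ 7 + 40 * α ^ 6 + 16 * α ^ 5 + 32 * α ^ 4 - 16 * α ^ 3 - 8 * α ^ 2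

/-- Entry of `ZO`. -/
def ZO_10 (α : F) : F :=
  -16 * α ^ 12 + 44 * α ^ 10 - 8 * α ^ 9 - 44 * α ^ 8 + 16 * α ^ 7 + 20 * α ^ 6 - 8 * α ^ 5 - 4 * α ^ 4

/-- Entry of `ZO`. -/
def ZO_11 (α : F) : F :=
  -16 * α ^ 11 + 52 * α ^ 9 + 6 * α ^ 8 - 50 * α ^ 7 - 4 * α ^ 6 + 16 * α ^ 5 - 2 * α ^ 4 - 2 * α ^ 3

/-- Entry of `ZO`. -/
def ZO_12 (α : F) : F :=
  -6 * α ^ 7 - 8 * α ^ 6 + 10 * α ^ 5 + 16 * α ^ 4 - 2 * α ^ 3 - 8 * α ^ 2 - 2 * α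

/-- Entry of `ZO`. -/
def ZO_13 (α : F) : F :=
  -64 * α ^ 9 + 128 * α ^ 8 - 10 * α ^ 7 - 120 * α ^ 6 + 86 * α ^ 5 - 16 * α ^ 4 - 14 * α ^ 3 + 8 * α ^ 2 + 2 * α

/-- Entry of `ZO`. -/
def ZO_20 (α : F) : F :=
  4 * α ^ 12 + 8 * α ^ 11 - 4 * α ^ 10 - 16 * α ^ 9 - 4 * α ^ 8 + 8 * α ^ 7 + 4 * α ^ 6

/-- Entry of `ZO`. -/
def ZO_21 (α : F) : F :=
  4 * α ^ 11 + 8 * α ^ 10 - 6 * α ^ 9 - 24 * α ^ 8 - 16 * α ^ 7 + 2 * α ^ 5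

/-- Entry of `ZO`. -/
def ZO_22 (α : F) : F :=
  -2 * α ^ 8 - 6 * α ^ 7 - 4 * α ^ 6 + 4 * α ^ 5 + 6 * α ^ 4 + 2 * α ^ 3

/-- Entry of `ZO`. -/
def ZO_23 (α : F) : F :=
  16 * α ^ 9 - 32 * α ^ 7 + 16 * α ^ 5

/-- Entry of `ZO`. -/
def ZO_30 (α : F) : F :=
  -4 * α ^ 12 - 8 * α ^ 11 + 4 * α ^ 10 + 16 * α ^ 9 + 4 * α ^ 8 - 8 * α ^ 7 - 4 * α ^ 6

/-- Entry of `ZO`. -/
def ZO_31 (α : F) : F :=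
  -4 * α ^ 11 - 8 * α ^ 10 + 6 * α ^ 9 + 24 * α ^ 8 + 16 * α ^ 7 - 2 * α ^ 5

/-- Entry of `ZO`. -/
def ZO_32 (α : F) : F :=
  -2 * α ^ 7 - 8 * α ^ 6 - 12 * α ^ 5 - 8 * α ^ 4 - 2 * α ^ 3

/-- Entry of `ZO`. -/
def ZO_33 (α : F) : F :=
  -16 * α ^ 9 - 2 * α ^ 8 + 26 * α ^ 7 - 4 * α ^ 6 - 12 * α ^ 5 + 6 * α ^ 4 + 2 * α ^ 3


/-- Numerator of `v - 1`, case O. -/
def ZO (α : F) : Matrix (Fin 4) (Fin 4) F :=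
  !![ZO_00 α, ZO_01 α, ZO_02 α, ZO_03 α;
    ZO_10 α, ZO_11 α, ZO_12 α, ZO_13 α;
    ZO_20 α, ZO_21 α, ZO_22 α, ZO_23 α;
    ZO_30 α, ZO_31 α, ZO_32 α, ZO_33 α]

/-- Entry of `ZsO`. -/
def ZsO_00 (α : F) : F :=
  64 * α ^ 19 + 240 * α ^ 18 + 144 * α ^ 17 - 540 * α ^ 16 - 872 * α ^ 15 + 20 * α ^ 14 + 960 * α ^ 13 + 648 * α ^ 12 - 176 * α ^ 11 - 392 * α ^ 10 - 144 * α ^ 9 + 20 * α ^ 8 + 24 * α ^ 7 + 4 * α ^ 6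

/-- Entry of `ZsO`. -/
def ZsO_01 (α : F) : F :=
  64 * α ^ 18 + 256 * α ^ 17 + 208 * α ^ 16 - 492 * α ^ 15 - 1020 * α ^ 14 - 298 * α ^ 13 + 812 * α ^ 12 + 836 * α ^ 11 + 100 * α ^ 10 - 280 * α ^ 9 - 172 * α ^ 8 - 24 * α ^ 7 + 8 * α ^ 6 + 2 * α ^ 5

/-- Entry of `ZsO`. -/
def ZsO_02 (α : F) : F :=
  32 * α ^ 17 + 128 * α ^ 16 + 88 * α ^ 15 - 320 * α ^ 14 - 610 * α ^ 13 - 96 * α ^ 12 + 682 * α ^ 11 + 656 * α ^ 10 - 4 * α ^ 9 - 368 * α ^ 8 - 228 * α ^ 7 - 16 * α ^ 6 + 38 * α ^ 5 + 16 * α ^ 4 + 2 * α ^ 3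

/-- Entry of `ZsO`. -/
def ZsO_03 (α : F) : F :=
  -32 * α ^ 17 + 128 * α ^ 16 + 312 * α ^ 15 - 416 * α ^ 14 - 930 * α ^ 13 + 372 * α ^ 12 + 1238 * α ^ 11 + 112 * α ^ 10 - 772 * α ^ 9 - 328 * α ^ 8 + 180 * α ^ 7 + 144 * α ^ 6 + 6 * α ^ 5 - 12 * α ^ 4 - 2 * α ^ 3

/-- Entry of `ZsO`. -/
def ZsO_10 (α : F) : F :=
  -64 * α ^ 20 - 240 * α ^ 19 - 112 * α ^ 18 + 624 * α ^ 17 + 816 * α ^ 16 - 352 * α ^ 15 - 1120 * α ^ 14 - 288 * α ^ 13 + 544 * α ^ 12 + 336 * α ^ 11 - 48 * α ^ 10 - 80 * α ^ 9 - 16 * α ^ 8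

/-- Entry of `ZsO`. -/
def ZsO_11 (α : F) : F :=
  -64 * α ^ 19 - 256 * α ^ 18 - 176 * α ^ 17 + 584 * α ^ 16 + 984 * α ^ 15 - 64 * α ^ 14 - 1120 * α ^ 13 - 624 * α ^ 12 + 304 * α ^ 11 + 384 * α ^ 10 + 80 * α ^ 9 - 24 * α ^ 8 - 8 * α ^ 7

/-- Entry of `ZsO`. -/
def ZsO_12 (α : F) : F :=
  -32 * α ^ 18 - 128 * α ^ 17 - 72 * α ^ 16 + 360 * α ^ 15 + 552 * α ^ 14 - 168 * α ^ 13 - 848 * α ^ 12 - 368 * α ^ 11 + 432 * α ^ 10 + 432 * α ^ 9 + 24 * α ^ 8 - 120 * α ^ 7 - 56 * α ^ 6 - 8 * α ^ 5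

/-- Entry of `ZsO`. -/
def ZsO_13 (α : F) : F :=
  32 * α ^ 18 - 128 * α ^ 17 - 328 * α ^ 16 + 504 * α ^ 15 + 1032 * α ^ 14 - 728 * α ^ 13 - 1488 * α ^ 12 + 432 * α ^ 11 + 1072 * α ^ 10 - 48 * α ^ 9 - 360 * α ^ 8 - 40 * α ^ 7 + 40 * α ^ 6 + 8 * α ^ 5

/-- Entry of `ZsO`. -/
def ZsO_20 (α : F) : F :=
  16 * α ^ 20 + 88 * α ^ 19 + 160 * α ^ 18 + 24 * α ^ 17 - 288 * α ^ 16 - 336 * α ^ 15 + 240 * α ^ 13 + 144 * α ^ 12 - 8 * α ^ 11 - 32 * α ^ 10 - 8 * α ^ 9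

/-- Entry of `ZsO`. -/
def ZsO_21 (α : F) : F :=
  16 * α ^ 19 + 92 * α ^ 18 + 184 * α ^ 17 + 76 * α ^ 16 - 256 * α ^ 15 - 392 * α ^ 14 - 112 * α ^ 13 + 184 * α ^ 12 + 176 * α ^ 11 + 44 * α ^ 10 - 8 * α ^ 9 - 4 * α ^ 8

/-- Entry of `ZsO`. -/
def ZsO_22 (α : F) : F :=
  8 * α ^ 18 + 48 * α ^ 17 + 100 * α ^ 16 + 40 * α ^ 15 - 164 * α ^ 14 - 256 * α ^ 13 - 56 * α ^ 12 + 176 * α ^ 11 + 160 * α ^ 10 + 16 * α ^ 9 - 44 * α ^ 8 - 24 * α ^ 7 - 4 * α ^ 6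

/-- Entry of `ZsO`. -/
def ZsO_23 (α : F) : F :=
  -8 * α ^ 18 + 16 * α ^ 17 + 116 * α ^ 16 + 48 * α ^ 15 - 284 * α ^ 14 - 256 * α ^ 13 + 232 * α ^ 12 + 320 * α ^ 11 - 32 * α ^ 10 - 144 * α ^ 9 - 28 * α ^ 8 + 16 * α ^ 7 + 4 * α ^ 6

/-- Entry of `ZsO`. -/
def ZsO_30 (α : F) : F :=
  -16 * α ^ 20 - 96 * α ^ 19 - 208 * α ^ 18 - 128 * α ^ 17 + 224 * α ^ 16 + 448 * α ^ 15 + 224 * α ^ 14 - 128 * α ^ 13 - 208 * α ^ 12 - 96 * α ^ 11 - 16 * α ^ 10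

/-- Entry of `ZsO`. -/
def ZsO_31 (α : F) : F :=
  -16 * α ^ 19 - 100 * α ^ 18 - 232 * α ^ 17 - 176 * α ^ 16 + 224 * α ^ 15 + 616 * α ^ 14 + 560 * α ^ 13 + 208 * α ^ 12 - 16 * α ^ 11 - 36 * α ^ 10 - 8 * α ^ 9

/-- Entry of `ZsO`. -/
def ZsO_32 (α : F) : F :=
  -8 * α ^ 18 - 48 * α ^ 17 - 96 * α ^ 16 - 8 * α ^ 15 + 272 * α ^ 14 + 448 * α ^ 13 + 224 * α ^ 12 - 176 * α ^ 11 - 328 * α ^ 10 - 208 * α ^ 9 - 64 * α ^ 8 - 8 * α ^ 7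

/-- Entry of `ZsO`. -/
def ZsO_33 (α : F) : F :=
  8 * α ^ 18 - 16 * α ^ 17 - 144 * α ^ 16 - 152 * α ^ 15 + 208 * α ^ 14 + 416 * α ^ 13 + 32 * α ^ 12 - 304 * α ^ 11 - 152 * α ^ 10 + 48 * α ^ 9 + 48 * α ^ 8 + 8 * α ^ 7


/-- The square of the numerator, case O. -/
def ZsO (α : F) : Matrix (Fin 4) (Fin 4) F :=
  !![ZsO_00 α, ZsO_01 α, ZsO_02 α, ZsO_03 α;
    ZsO_10 α, ZsO_11 α, ZsO_12 α, ZsO_13 α;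
    ZsO_20 α, ZsO_21 α, ZsO_22 α, ZsO_23 α;
    ZsO_30 α, ZsO_31 α, ZsO_32 α, ZsO_33 α]

lemma ZO_sq (α : F) : ZO α * ZO α = ZsO α := by
  ext i j
  fin_cases i <;> fin_cases j <;>
    simp [ZO, ZsO, Matrix.mul_apply, Fin.sum_univ_succ, ZO_00, ZO_01, ZO_02, ZO_03, ZO_10, ZO_11, ZO_12, ZO_13, ZO_20, ZO_21, ZO_22, ZO_23, ZO_30, ZO_31, ZO_32, ZO_33, ZsO_00, ZsO_01, ZsO_02, ZsO_03, ZsO_10, ZsO_11, ZsO_12, ZsO_13, ZsO_20, ZsO_21, ZsO_22, ZsO_23, ZsO_30, ZsO_31, ZsO_32, ZsO_33] <;> ring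

lemma ZsO_sq (α : F) : ZsO α * ZsO α = 0 := by
  ext i j
  fin_cases i <;> fin_cases j <;>
    simp [ZsO, Matrix.mul_apply, Fin.sum_univ_succ, ZsO_00, ZsO_01, ZsO_02, ZsO_03, ZsO_10, ZsO_11, ZsO_12, ZsO_13, ZsO_20, ZsO_21, ZsO_22, ZsO_23, ZsO_30, ZsO_31, ZsO_32, ZsO_33] <;> ring

lemma ZO_cube (α : F) : (ZsO α * ZO α) 2 0 = (2 * α ^ 4 * (α + 1) ^ 4) ^ 3 * (2 * α * (α - 1) ^ 3) := by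
  simp [ZO, ZsO, Matrix.mul_apply, Fin.sum_univ_succ, DO, ZO_00, ZO_01, ZO_02, ZO_03, ZO_10, ZO_11, ZO_12, ZO_13, ZO_20, ZO_21, ZO_22, ZO_23, ZO_30, ZO_31, ZO_32, ZO_33, ZsO_00, ZsO_01, ZsO_02, ZsO_03, ZsO_10, ZsO_11, ZsO_12, ZsO_13, ZsO_20, ZsO_21, ZsO_22, ZsO_23, ZsO_30, ZsO_31, ZsO_32, ZsO_33]
  ring


lemma UE_mul {α : F} (h0 : α ≠ 0) (h1 : α + 1 ≠ 0) (h2 : α - 1 ≠ 0) (h3 : α - 3 ≠ 0) :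
    (1 + X4 1 (aE α) (dE α) (hE α)) * (1 + (DE α)⁻¹ • ZE α) = J4 α := by
  ext i j
  fin_cases i <;> fin_cases j <;>
    simp [X4, J4, ZE, DE, aE, dE, hE, Matrix.mul_apply, Fin.sum_univ_succ, Matrix.one_apply, ZE_00, ZE_01, ZE_02, ZE_03, ZE_10, ZE_11, ZE_12, ZE_13, ZE_20, ZE_21, ZE_22, ZE_23, ZE_30, ZE_31, ZE_32, ZE_33] <;>
    field_simp <;> ring

lemma UO_mul {α : F} (h0 : α ≠ 0) (h1 : α + 1 ≠ 0) (h2 : (2 : F) ≠ 0) :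
    (1 + X4 0 (aO α) (dO α) (hO α)) * (1 + (DO α)⁻¹ • ZO α) = J4 α := by
  ext i j
  fin_cases i <;> fin_cases j <;>
    simp [X4, J4, ZO, DO, aO, dO, hO, Matrix.mul_apply, Fin.sum_univ_succ, Matrix.one_apply, ZO_00, ZO_01, ZO_02, ZO_03, ZO_10, ZO_11, ZO_12, ZO_13, ZO_20, ZO_21, ZO_22, ZO_23, ZO_30, ZO_31, ZO_32, ZO_33] <;>
    field_simp <;> ring

end Cfsg.Agent.Lib.RegUnip.Inst4
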